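import Groth.Agent.ResProp.K863.DiagCover
import Groth.Agent.AlgSt.K750.QuotPre

/-!
# The diagonal of `[X/G]`

* `prop_lift` : `(q, r) : Q ⟶ T × X` has `P` when `q` and the diagonal of `X` have `P`;
* `repByAlgSpWith_diag_quotSt` : the diagonal of `[X/G]` (fppf torsors, `G` affine, flat, locally of
  finite presentation) has `P` when the diagonal of `X` has `P` and affine morphisms have `P`.
-/

set_option autoImplicit false
set_option backward.isDefEq.respectTransparency false
set_option backward.isDefEq.respectTransparency.types false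

universe w u

open CategoryTheory CategoryTheory.Limits AlgebraicGeometry Opposite MonoidalCategory

namespace K863.QuotDiag

variable {S : Scheme.{u}}

section graph

variable {C : Type*} [Category C] [HasBinaryProducts C]

theorem isPullback_graph {Q X : C} (r : Q ⟶ X) :
    IsPullback r (prod.lift (𝟙 Q) r) (Limits.diag X) (prod.map r (𝟙 X)) := by
  refine ⟨⟨?_⟩, ⟨PullbackCone.IsLimit.mk _ (fun s => s.snd ≫ prod.fst) (fun s => ?_) (fun s => ?_)
    (fun s m h1 h2 => ?_)⟩⟩
  · simp [Limits.diag]
  · have := congrArg (· ≫ prod.fst) s.condition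
    simpa [Limits.diag] using this.symm
  · have h1 := congrArg (· ≫ prod.fst) s.condition
    have h2 := congrArg (· ≫ prod.snd) s.condition
    simp only [Limits.diag, Category.assoc, prod.lift_fst, prod.lift_snd, prod.map_fst,
      prod.map_snd, Category.comp_id] at h1 h2
    apply Limits.prod.hom_ext
    · simp
    · simp only [Category.assoc, prod.lift_snd]
      rw [← h1, h2]
  · rw [← h2]
    simp

theorem lift_eq {Q T X : C} (q : Q ⟶ T) (r : Q ⟶ X) :
    prod.lift q r = prod.lift (𝟙 Q) r ≫ prod.map q (𝟙 X) := by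
  simp

end graph

theorem prop_lift (P : MorphismProperty Scheme.{u}) [P.IsStableUnderBaseChange]
    [P.IsStableUnderComposition] {Q T X : Over S} (q : Q ⟶ T) (r : Q ⟶ X) (hq : P q.left)
    (hX : P (Limits.diag X).left) : P (prod.lift q r).left := by
  rw [lift_eq]
  refine P.comp_mem _ _ ?_ ?_
  · exact P.of_isPullback ((isPullback_graph r).map (Over.forget S)) hX
  · exact P.of_isPullback ((K607.FpDesc.isPullback_prodMap_left q X).map (Over.forget S)) hq

theorem prop_diag_iff (P : MorphismProperty Scheme.{u}) [P.IsStableUnderBaseChange] (X : Over S) :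
    P (Limits.diag X).left ↔ P (pullback.diagonal X.hom) := by
  have : P.RespectsIso := MorphismProperty.IsStableUnderBaseChange.respectsIso
  rw [← AlgSp.diag_left_comp_prodLeftIsoPullback]
  exact (MorphismProperty.cancel_right_of_respectsIso P (Limits.diag X).left
    (Over.prodLeftIsoPullback X X).hom).symm

theorem prop_strU (P : MorphismProperty Scheme.{u}) {G X : Over S} [GrpObj G]
    {aX : AlgGrp.Action G X}
    (h : ∀ A : AlgSt.QuotObj Scheme.fppfPrecoverage G aX, P A.π.left) {T : Over S}
    (y : FibCat.overCat T ⥤ᵇ AlgSt.QuotSt Scheme.fppfPrecoverage G aX) :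
    P (K744.QuotFp.strU y).left := by
  have h2 : ∀ (A : AlgSt.QuotObj Scheme.fppfPrecoverage G aX) (V : Over S) (e : A.base = V),
      P (A.π ≫ eqToHom e).left := by
    rintro A _ rfl
    rw [eqToHom_refl, Category.comp_id]
    exact h A
  exact h2 (K744.QuotFp.tors y) T (K744.QuotFp.tors_base y)

/-- The diagonal of `[X/G]`. -/
theorem repByAlgSpWith_diag_quotSt (G : Over S) [GrpObj G]
    [IsAffineHom G.hom] [Flat G.hom] [LocallyOfFinitePresentation G.hom]
    (X : Over S) (aX : AlgGrp.Action G X)
    (P : MorphismProperty Scheme.{u}) [IsZariskiLocalAtTarget P]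
    [P.IsStableUnderBaseChange] [P.IsStableUnderComposition] [P.DescendsAlong K628.Cov.fpqc]
    (hPQ : P ≤ Groth.Agent.Ega2.QuasiAffine.QAff) (hPA : ∀ {A B : Scheme.{u}} (f : A ⟶ B), IsAffineHom f → P f)
    (hX : P (pullback.diagonal X.hom)) :
    AlgSt.RepByAlgSpWith (AlgSp.RepWith P)
      (FibCat.diag (FibCat.toSelf (AlgSt.QuotSt Scheme.fppfPrecoverage G aX))) := by
  refine DiagCover.repByAlgSpWith_diag
    (K750.QuotPre.isPrestack_quotSt Scheme.fppfPrecoverage G aX (AlgSp.J S))
    (K744.QuotFp.chart Scheme.fppfPrecoverage G aX) P hPQ (fun T x => ?_)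
  refine ⟨_, K744.QuotFp.strU x, (K744.QuotFp.tors x).φ,
    K744.QuotFp.exists_isEquivOver_overCat x, ?_, ?_, ?_, ?_⟩
  · exact prop_strU @Flat (fun A => K744.TorsProp.flat_of_torsor A) x
  · exact prop_strU @LocallyOfFinitePresentation (fun A => K744.TorsProp.lfp_of_torsor A) x
  · exact prop_strU @Surjective (fun A => K744.TorsProp.surjective_of_torsor A) x
  · exact prop_lift P _ _ (hPA _ (prop_strU @IsAffineHom
      (fun A => K744.TorsProp.isAffineHom_of_torsor A) x)) ((prop_diag_iff P X).2 hX)

end K863.QuotDiag
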