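import Groth.Agent.ResProp.K863.FppfRep
import Groth.Agent.AlgSt.K747.DiagRep
import Groth.Agent.AlgSt.K744.TorsProp

/-!
# The diagonal of a stack with a chart having schematic fibre products

`FpSch x z q r` : the 2-fibre product `T ×_𝒳 U` is the scheme `Q`, with projections `q : Q ⟶ T` and
`r : Q ⟶ U`.
* `exists_isPullback` : `Isom(x₁, x₂) ×_T Q₂` is the scheme `Q₁ ×_{T × U} Q₂`;
* `repByAlgSpWith_diag` : if for every `x` the scheme `Q` is flat, locally of finite presentation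
  and surjective over `T` and `Q ⟶ T × U` has `P` (a fpqc local property of quasi-affine morphisms),
  then the diagonal of `𝒳` has `P`.
-/

set_option autoImplicit false
set_option backward.isDefEq.respectTransparency false
set_option backward.isDefEq.respectTransparency.types false

universe w u

open CategoryTheory CategoryTheory.Limits AlgebraicGeometry Opposite K734.Fib

namespace K863.DiagCover

open K744.IsomFp K747.Sc

variable {S : Scheme.{u}} {𝒳 : BasedCategory.{u, w} (Over S)}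

/-- The 2-fibre product `T ×_𝒳 U` is the scheme `Q`. -/
def FpSch {T U Q : Over S} (x : FibCat.overCat T ⥤ᵇ 𝒳) (z : FibCat.overCat U ⥤ᵇ 𝒳) (q : Q ⟶ T)
    (r : Q ⟶ U) : Prop :=
  ∃ e : FibCat.overCat Q ⥤ᵇ FibCat.fp x z, FibCat.IsEquivOver e ∧
    BasedFunctor.comp e (FibCat.fpFst x z) = ovMap q ∧
    BasedFunctor.comp e (FibCat.fpSnd x z) = ovMap r

section

variable (h𝒳 : FibCat.IsFibGrpd 𝒳.p) {T U Q : Over S}
variable {x : FibCat.overCat T ⥤ᵇ 𝒳} {z : FibCat.overCat U ⥤ᵇ 𝒳} {q : Q ⟶ T} {r : Q ⟶ U}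

theorem FpSch.exists_iso (h : FpSch x z q r) :
    ∃ i : P h𝒳 x z ≅ (AlgSp.pyon S).obj Q, prT h𝒳 x z = i.hom ≫ (AlgSp.pyon S).map q ∧
      prU h𝒳 x z = i.hom ≫ (AlgSp.pyon S).map r := by
  obtain ⟨e, he, h1, h2⟩ := h
  have he' := isEquivOver_comp (K735.Rep.isEquivOver_toOverCat Q) he
  obtain ⟨i, ⟨α⟩⟩ := K747.OfPsh.exists_iso_of_rep (toFp_isEquivOver.{u + 1} h𝒳 x z) he'
  have key : ∀ {V : Over S} (Φ : FibCat.fp x z ⥤ᵇ FibCat.overCat V) (g : Q ⟶ V),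
      BasedFunctor.comp e Φ = ovMap g →
      K747.Rep.pMap (BasedFunctor.comp (toFp.{u + 1} h𝒳 x z) Φ) = i.hom ≫ (AlgSp.pyon S).map g := by
    intro V Φ g hg
    have h3 : K747.Rep.pMap (BasedFunctor.comp (toFp.{u + 1} h𝒳 x z) Φ) =
        i.hom ≫ K747.Rep.pMap (BasedFunctor.comp (BasedFunctor.comp (AlgSt.toOverCat Q) e) Φ) := by
      rw [← K747.Rep.pMap_comp]
      exact K747.Rep.pMap_congr (wr α.symm Φ)
    rw [h3]
    congr 1
    have h4 : BasedFunctor.comp (BasedFunctor.comp (AlgSt.toOverCat Q) e) Φ =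
        BasedFunctor.comp (AlgSt.toOverCat Q) (ovMap g) :=
      congrArg (BasedFunctor.comp (AlgSt.toOverCat Q)) hg
    rw [h4]
    exact congrArg (·.hom) (K744.QuotFp.spMapOfOver_toOverCat_ovMap g)
  refine ⟨i, ?_, ?_⟩
  · rw [← pMap_toFp_fst]
    exact key _ _ h1
  · rw [← pMap_toFp_snd]
    exact key _ _ h2

theorem prTU_eq {i : P h𝒳 x z ≅ (AlgSp.pyon S).obj Q}
    (h1 : prT h𝒳 x z = i.hom ≫ (AlgSp.pyon S).map q)
    (h2 : prU h𝒳 x z = i.hom ≫ (AlgSp.pyon S).map r) :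
    prTU h𝒳 x z = i.hom ≫ (AlgSp.pyon S).map (prod.lift q r) := by
  ext V s
  have e1 := ConcreteCategory.congr_hom (NatTrans.congr_app h1 V) s
  have e2 := ConcreteCategory.congr_hom (NatTrans.congr_app h2 V) s
  refine congrArg ULift.up ?_
  change prod.lift s.down.t s.down.u = (i.hom.app V s).down ≫ prod.lift q r
  have e1' : s.down.t = (i.hom.app V s).down ≫ q := congrArg ULift.down e1
  have e2' : s.down.u = (i.hom.app V s).down ≫ r := congrArg ULift.down e2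
  rw [prod.comp_lift, ← e1', ← e2']

end

section

variable (h𝒳 : FibCat.IsFibGrpd 𝒳.p) {T U Q₁ Q₂ : Over S}
variable {x₁ x₂ : FibCat.overCat T ⥤ᵇ 𝒳} {z : FibCat.overCat U ⥤ᵇ 𝒳} {q₁ : Q₁ ⟶ T} {r₁ : Q₁ ⟶ U}
  {q₂ : Q₂ ⟶ T} {r₂ : Q₂ ⟶ U}

/-- `Isom(x₁, x₂) ×_T Q₂` is `Q₁ ×_{T × U} Q₂`. -/
theorem exists_isPullback (H₁ : FpSch x₁ z q₁ r₁) (H₂ : FpSch x₂ z q₂ r₂) :
    ∃ m : (AlgSp.pyon S).obj (pullback (prod.lift q₁ r₁) (prod.lift q₂ r₂)) ⟶ I h𝒳 x₁ x₂,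
      IsPullback m ((AlgSp.pyon S).map (pullback.snd (prod.lift q₁ r₁) (prod.lift q₂ r₂)))
        (prI h𝒳 x₁ x₂) ((AlgSp.pyon S).map q₂) := by
  obtain ⟨i₁, h1, h2⟩ := H₁.exists_iso h𝒳
  obtain ⟨i₂, h3, h4⟩ := H₂.exists_iso h𝒳
  have e1 := prTU_eq h𝒳 h1 h2
  have e2 := prTU_eq h𝒳 h3 h4
  have sq := IsPullback.of_hasPullback (prI h𝒳 x₁ x₂) (prT h𝒳 x₂ z)
  have sq2 := isPullback_mul sq
  have sq3 : IsPullback ((AlgSp.pyon S).map (pullback.fst (prod.lift q₁ r₁) (prod.lift q₂ r₂)))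
      ((AlgSp.pyon S).map (pullback.snd (prod.lift q₁ r₁) (prod.lift q₂ r₂)))
      ((AlgSp.pyon S).map (prod.lift q₁ r₁)) ((AlgSp.pyon S).map (prod.lift q₂ r₂)) :=
    (IsPullback.of_hasPullback (prod.lift q₁ r₁) (prod.lift q₂ r₂)).map (AlgSp.pyon S)
  have sq4 : IsPullback (mul sq ≫ i₁.hom) (pullback.snd (prI h𝒳 x₁ x₂) (prT h𝒳 x₂ z) ≫ i₂.hom)
      ((AlgSp.pyon S).map (prod.lift q₁ r₁)) ((AlgSp.pyon S).map (prod.lift q₂ r₂)) := by
    refine IsPullback.of_iso sq2 (Iso.refl _) i₁ i₂ (Iso.refl _) ?_ ?_ ?_ ?_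
    · simp
    · simp
    · rw [e1]; simp
    · rw [e2]; simp
  let j := sq3.isoIsPullback _ _ sq4
  have hj : j.hom ≫ pullback.snd (prI h𝒳 x₁ x₂) (prT h𝒳 x₂ z) ≫ i₂.hom =
      (AlgSp.pyon S).map (pullback.snd (prod.lift q₁ r₁) (prod.lift q₂ r₂)) :=
    IsPullback.isoIsPullback_hom_snd _ _ sq3 sq4
  refine ⟨j.hom ≫ pullback.fst _ _, ?_⟩
  refine IsPullback.of_iso sq j.symm (Iso.refl _) i₂ (Iso.refl _) ?_ ?_ ?_ ?_
  · simp
  · rw [← hj]; simp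
  · simp
  · rw [h3]; simp

end

theorem pMap_toDiag {T : Over S} (h𝒳 : FibCat.IsFibGrpd 𝒳.p)
    (y : FibCat.overCat T ⥤ᵇ FibCat.fp (FibCat.toSelf 𝒳) (FibCat.toSelf 𝒳)) :
    K747.Rep.pMap (BasedFunctor.comp (toDiag.{u + 1} h𝒳 y)
      (FibCat.fpFst y (FibCat.diag (FibCat.toSelf 𝒳)))) = prI h𝒳 (y1 y) (y2 y) := by
  ext V s
  refine congrArg ULift.up ?_
  change eqToHom _ ≫ s.1.down.t = s.1.down.t
  simp

/-- The diagonal of a stack with a chart `z` whose fibre products with schemes are schemes, flat,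
locally of finite presentation and surjective. -/
theorem repByAlgSpWith_diag (hst : Stk.IsPrestack (AlgSp.J S) 𝒳) {U : Over S}
    (z : FibCat.overCat U ⥤ᵇ 𝒳) (P : MorphismProperty Scheme.{u}) [IsZariskiLocalAtTarget P]
    [P.IsStableUnderBaseChange] [P.DescendsAlong K628.Cov.fpqc]
    (hPQ : P ≤ Groth.Agent.Ega2.QuasiAffine.QAff)
    (H : ∀ (T : Over S) (x : FibCat.overCat T ⥤ᵇ 𝒳), ∃ (Q : Over S) (q : Q ⟶ T) (r : Q ⟶ U),
      FpSch x z q r ∧ Flat q.left ∧ LocallyOfFinitePresentation q.left ∧ Surjective q.left ∧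
        P (prod.lift q r).left) :
    AlgSt.RepByAlgSpWith (AlgSp.RepWith P) (FibCat.diag (FibCat.toSelf 𝒳)) := by
  intro T y
  have hG : FibCat.IsFibGrpd 𝒳.p := hst.1
  refine (K747.Rep.with_iff (AlgSp.RepWith P) _ (toDiag_isEquivOver.{u + 1} hG y)).2 ?_
  obtain ⟨Q₁, q₁, r₁, H₁, -, -, -, hP⟩ := H T (y1 y)
  obtain ⟨Q₂, q₂, r₂, H₂, hf, hl, hs, -⟩ := H T (y2 y)
  obtain ⟨m, sq⟩ := exists_isPullback hG H₁ H₂
  have hI : Presheaf.IsSheaf (AlgSp.J S) (I hG (y1 y) (y2 y)) :=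
    isSheaf_I hG Scheme.fppfPrecoverage hst _ _
  have sq' : IsPullback (ObjectProperty.homMk m : (AlgSp.yon S).obj _ ⟶ (⟨_, hI⟩ : AlgSp.Sp S))
      ((AlgSp.yon S).map (pullback.snd (prod.lift q₁ r₁) (prod.lift q₂ r₂)))
      (ObjectProperty.homMk (prI hG (y1 y) (y2 y)) : (⟨_, hI⟩ : AlgSp.Sp S) ⟶
        (AlgSp.yon S).obj T) ((AlgSp.yon S).map q₂) :=
    IsPullback.of_map_of_faithful (sheafToPresheaf (AlgSp.J S) (Type (u + 1))) sq
  refine ⟨hI, FppfRep.isAlgSpace_of_fppf hf hl hs sq', ?_⟩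
  have h1 := FppfRep.repWith_of_fppf hf hl hs sq' P hPQ
    (P.of_isPullback ((IsPullback.of_hasPullback (prod.lift q₁ r₁)
      (prod.lift q₂ r₂)).map (Over.forget S)) hP)
  have h2 := pMap_toDiag hG y
  convert h1 using 2

end K863.DiagCover
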