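import Groth.Agent.AlgSp.K628.Props
import Groth.Agent.AlgSp.K607.FpDesc
import Groth.Agent.S10505

/-!
# A sheaf over a scheme which is fppf locally a quasi-affine scheme

`isAlgSpace_of_fppf`, `repWith_of_fppf`: for `π : I ⟶ h_T` and `c : Q ⟶ T` flat, locally of finite
presentation and surjective with `I ×_T Q = h_N`, the sheaf `I` is an algebraic space, and `π` is
representable with property `P` when `N ⟶ Q` has `P` (`P` a fpqc local property of quasi-affine
morphisms).
-/

set_option autoImplicit false
set_option backward.isDefEq.respectTransparency false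
set_option backward.isDefEq.respectTransparency.types false

universe u

open CategoryTheory CategoryTheory.Limits AlgebraicGeometry Opposite AlgSp

namespace K863.FppfRep

variable {S : Scheme.{u}} {I : Sp S} {T Q N : Over S} {π : I ⟶ (yon S).obj T} {c : Q ⟶ T}
  {m : (yon S).obj N ⟶ I} {n : N ⟶ Q}

theorem repWith_base (P : MorphismProperty Scheme.{u}) [P.IsStableUnderBaseChange] (hc : P c.left)
    (sq : IsPullback m ((yon S).map n) π ((yon S).map c)) : RepWith P m :=
  MorphismProperty.of_isPullback (P := RepWith P) sq.flip ((repWith_yon_map_iff P c).2 hc)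

theorem isAlgSpace_of_fppf (hf : Flat c.left) (hl : LocallyOfFinitePresentation c.left)
    (hs : Surjective c.left) (sq : IsPullback m ((yon S).map n) π ((yon S).map c)) :
    IsAlgSpace I :=
  K607.FpDesc.isAlgSpace_of_repWith (IsAlgSpace.yon_obj N) (repWith_base @Flat hf sq)
    (repWith_base @LocallyOfFinitePresentation hl sq) (repWith_base @Surjective hs sq)

theorem isFpqcCover (hf : Flat c.left) (hl : LocallyOfFinitePresentation c.left)
    (hs : Surjective c.left) : IsFpqcCover (S := S) (ι := PUnit.{u + 1})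
      (fun _ => (yon S).obj Q) (fun _ => (yon S).map c) := by
  refine Groth.Agent.S10505.result ⟨(yon S).obj T, IsAlgSpace.yon_obj T⟩
    (fun _ => ⟨(yon S).obj Q, IsAlgSpace.yon_obj Q⟩) (fun _ => ObjectProperty.homMk ((yon S).map c)) ?_
  refine ⟨fun _ => ⟨?_, ?_⟩, fun x => ⟨⟨⟩, ?_⟩⟩
  · exact K597.locP_of_repWith K597.etLoc_flat.precomp ((repWith_yon_map_iff _ c).2 hf)
  · exact K597.locP_of_repWith K597.etLoc_lfp.precomp ((repWith_yon_map_iff _ c).2 hl)
  · exact K596.Pts.surjective_of_repWith ((repWith_yon_map_iff _ c).2 hs) x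

theorem repWith_of_fppf (hf : Flat c.left) (hl : LocallyOfFinitePresentation c.left)
    (hs : Surjective c.left) (sq : IsPullback m ((yon S).map n) π ((yon S).map c))
    (P : MorphismProperty Scheme.{u}) [IsZariskiLocalAtTarget P] [P.IsStableUnderBaseChange]
    [P.DescendsAlong K628.Cov.fpqc] (hPQ : P ≤ Groth.Agent.Ega2.QuasiAffine.QAff) (hn : P n.left) :
    RepWith P π :=
  (K628.Cover.isLocalOnBase_repWith P hPQ (fun _ : PUnit.{u + 1} => (yon S).obj Q)
    (fun _ => (yon S).map c) (IsAlgSpace.yon_obj T) (fun _ => IsAlgSpace.yon_obj Q)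
    (isFpqcCover hf hl hs) π (isAlgSpace_of_fppf hf hl hs sq) (fun _ => (yon S).obj N)
    (fun _ => (yon S).map n) (fun _ => m) (fun _ => IsAlgSpace.yon_obj N) (fun _ => sq)).2
    (fun _ => (repWith_yon_map_iff P n).2 hn)

end K863.FppfRep
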