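import Groth.Agent.StMod.K908.Leray
import Groth.Agent.StMod.K908.AffPush
import Groth.Agent.StMod.K908.Comap
import Groth.Agent.StMod.K907.Quot
import Groth.Agent.StMod.K784.Geo

/-!
# Generating classes of quasi-coherent modules and affine pushforward
-/

set_option autoImplicit false
set_option linter.style.haveILetI false
set_option backward.isDefEq.respectTransparency false
set_option backward.isDefEq.respectTransparency.types false

universe v' w' v w u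

open CategoryTheory CategoryTheory.Limits AlgebraicGeometry Opposite StMod
open K908.AMod K908.QSec K908.QHom K907.Alg K907.Sec K907.QDesc K908.Push K908.Aff K908.AffPush K908.Comap

namespace K863.Gen

variable {S : Scheme.{u}} {𝒳 : BasedCategory.{v, w} (Over S)} {𝒵 : BasedCategory.{v', w'} (Over S)}

/-- sections coming from the class `P` -/
def img (P : QCoh 𝒳 → Prop) (F : QCoh 𝒳) (ξ : 𝒳.obj) : Set Γ(F.obj.obj ξ, ⊤) :=
  {x | ∃ (E : QCoh 𝒳) (_ : P E) (φ : E ⟶ F) (y : Γ(E.obj.obj ξ, ⊤)), (φ.hom.app ξ).app ⊤ y = x}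

theorem span_img_eq_top (h𝒳 : FibCat.IsFibGrpd 𝒳.p) (P : QCoh 𝒳 → Prop)
    (h : ∀ (M N : QCoh 𝒳) (a b : M ⟶ N), (∀ E : QCoh 𝒳, P E → ∀ φ : E ⟶ M, φ ≫ a = φ ≫ b) → a = b)
    (F : QCoh 𝒳) (ξ : 𝒳.obj) (hξ : IsAffine (sch 𝒳 ξ)) :
    Submodule.span Γ(sch 𝒳 ξ, ⊤) (img P F ξ) = ⊤ := by
  haveI := h𝒳
  have hK : ∀ ⦃ξ' ξ : 𝒳.obj⦄ [IsAffine (sch 𝒳 ξ)] [IsAffine (sch 𝒳 ξ')] (φ : ξ' ⟶ ξ),
      pull φ (Submodule.span Γ(sch 𝒳 ξ, ⊤) (img P F ξ)) = Submodule.span Γ(sch 𝒳 ξ', ⊤) (img P F ξ') := by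
    intro ξ' ξ _ _ φ
    apply le_antisymm
    · rw [pull, ext_le]
      intro x hx
      induction hx using Submodule.span_induction with
      | mem x h =>
        obtain ⟨E, hE, φ', y, rfl⟩ := h
        refine Submodule.subset_span ⟨E, hE, φ', E.obj.mapTop φ y, ?_⟩
        exact (Mod.mapTop_app φ'.hom φ y).symm
      | zero => rw [map_zero]; exact Submodule.zero_mem _
      | add x y _ _ hx hy => rw [map_add]; exact Submodule.add_mem _ hx hy
      | smul a x _ hx => rw [resTop_smul]; exact Submodule.smul_mem _ _ hx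
    · rw [Submodule.span_le]
      rintro _ ⟨E, hE, φ', y, rfl⟩
      have h1 := ((K784.Geo.isBC_iff _ _).1 (isBC_resTop E φ)).span_range
      have h2 : y ∈ Submodule.span Γ(sch 𝒳 ξ', ⊤) (Set.range (resTop E.obj φ)) := by rw [h1]; exact Submodule.mem_top
      induction h2 using Submodule.span_induction with
      | mem x h =>
        obtain ⟨m, rfl⟩ := h
        have h3 : (φ'.hom.app ξ').app ⊤ (resTop E.obj φ m) = resTop F.obj φ ((φ'.hom.app ξ).app ⊤ m) :=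
          (Mod.mapTop_app φ'.hom φ m).symm
        change (φ'.hom.app ξ').app ⊤ (resTop E.obj φ m) ∈ _
        rw [h3]
        exact mem_ext _ (Submodule.subset_span ⟨E, hE, φ', m, rfl⟩)
      | zero =>
        change (φ'.hom.app ξ').app ⊤ 0 ∈ _
        rw [map_zero]; exact Submodule.zero_mem _
      | add x y _ _ hx hy =>
        change (φ'.hom.app ξ').app ⊤ (x + y) ∈ _
        rw [map_add]; exact Submodule.add_mem _ hx hy
      | smul a x _ hx =>
        have h3 : (φ'.hom.app ξ').app ⊤ (a • x) = a • (φ'.hom.app ξ').app ⊤ x :=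
          (restMap φ'.hom (ASieve.all 𝒳)).app ⟨ξ', ‹IsAffine (sch 𝒳 ξ')›⟩ |>.map_smul a x
        change (φ'.hom.app ξ').app ⊤ (a • x) ∈ _
        rw [h3]
        exact Submodule.smul_mem _ _ hx
  obtain ⟨Q, q, -, hq⟩ := K907.Quot.exists_quotient h𝒳 F (fun ξ _ => Submodule.span Γ(sch 𝒳 ξ, ⊤) (img P F ξ)) hK
  have h1 : q = ObjectProperty.homMk 0 := by
    refine h F Q q _ fun E hE φ => ?_
    apply ObjectProperty.hom_ext
    refine hom_ext_of_top (C := ASieve.all 𝒳) K908.Fam.zloc_all fun ζ x => ?_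
    haveI : IsAffine (sch 𝒳 ζ.obj) := ζ.property
    refine ((hq ζ.obj ((φ.hom.app ζ.obj).app ⊤ x)).2 (Submodule.subset_span ⟨E, hE, φ, x, rfl⟩)).trans ?_
    rfl
  rw [eq_top_iff]
  intro x _
  rw [← hq ξ x, h1]
  rfl

section Push

variable {p : 𝒵 ⥤ᵇ 𝒳} {F : QCoh 𝒵} {T : QCoh 𝒳} (hT : IsPush p F.obj T.obj)

/-- the counit of the pushforward -/
noncomputable def cu (w : 𝒵.obj) (hw : IsAffine (sch 𝒵 w)) : Γ(T.obj.obj (p.obj w), ⊤) →+ Γ(F.obj.obj w, ⊤) where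
  toFun x := (hT.ev (p.obj w) (K908.Leray.isAffine_obj p hw) x).1 w (𝟙 _)
  map_zero' := by rw [map_zero]; rfl
  map_add' x y := by rw [map_add]; rfl

theorem cu_apply (w : 𝒵.obj) (hw : IsAffine (sch 𝒵 w)) (x : Γ(T.obj.obj (p.obj w), ⊤)) :
    cu hT w hw x = (hT.ev (p.obj w) (K908.Leray.isAffine_obj p hw) x).1 w (𝟙 _) := rfl

theorem cu_smul (w : 𝒵.obj) (hw : IsAffine (sch 𝒵 w)) (r : Γ(sch 𝒳 (p.obj w), ⊤)) (x : Γ(T.obj.obj (p.obj w), ⊤)) :
    cu hT w hw (r • x) = (eqToHom (sch_obj_eq p w).symm : sch 𝒵 w ⟶ sch 𝒳 (p.obj w)).appTop r • cu hT w hw x := by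
  rw [cu_apply, map_smul, Mod.RelSect.smul_val, ← cu_apply hT w hw]
  congr 2
  have h1 : (baseOver p w (𝟙 (p.obj w))).left = (eqToHom (sch_obj_eq p w).symm : sch 𝒵 w ⟶ sch 𝒳 (p.obj w)) := by
    rw [baseOver_left, bmap_id]
    refine (Category.comp_id _).trans ?_
    rw [Over.eqToHom_left]
  rw [h1]

theorem cu_mapTop {w' w : 𝒵.obj} (hw' : IsAffine (sch 𝒵 w')) (hw : IsAffine (sch 𝒵 w)) (φ : w' ⟶ w)
    (x : Γ(T.obj.obj (p.obj w), ⊤)) :
    F.obj.mapTop φ (cu hT w hw x) = cu hT w' hw' (T.obj.mapTop (p.map φ) x) := by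
  rw [cu_apply, cu_apply, hT.comm (p.map φ) (K908.Leray.isAffine_obj p hw') (K908.Leray.isAffine_obj p hw), relRes_val,
    Category.id_comp]
  refine ((hT.ev (p.obj w) _ x).2 φ (𝟙 _)).trans ?_
  rw [Category.comp_id]

theorem cu_surjective (hp : IsAff p) (w : 𝒵.obj) (hw : IsAffine (sch 𝒵 w)) : Function.Surjective (cu hT w hw) := by
  intro x
  obtain ⟨w₁, α, h1, hα⟩ := hp (p.obj w) (K908.Leray.isAffine_obj p hw)
  obtain ⟨s, hs, -⟩ := hα w (𝟙 _)
  replace hs : p.map s ≫ α = 𝟙 _ := hs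
  have h2 : bmap 𝒵 s ≫ (baseOver p w₁ α).left = (baseOver p w (𝟙 (p.obj w))).left := by
    rw [bmap_comp_baseOver_left, hs]
  have h3 : (baseOver p w (𝟙 (p.obj w))).left = (eqToHom (sch_obj_eq p w).symm : sch 𝒵 w ⟶ sch 𝒳 (p.obj w)) := by
    rw [baseOver_left, bmap_id]
    refine (Category.comp_id _).trans ?_
    rw [Over.eqToHom_left]
  have h4 : Function.Surjective (ringMap s) := by
    intro r
    obtain ⟨r', hr'⟩ := (appTop_bijective p w).2 r
    refine ⟨(baseOver p w₁ α).left.appTop r', ?_⟩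
    rw [h3] at h2
    have h5 : ringMap s ((baseOver p w₁ α).left.appTop r') = (bmap 𝒵 s ≫ (baseOver p w₁ α).left).appTop r' := by
      rw [Scheme.Hom.comp_appTop]
      rfl
    rw [h5, h2]
    exact hr'
  have h5 : ∃ y : Γ(F.obj.obj w₁, ⊤), F.obj.mapTop s y = x := by
    have h6 := ((K784.Geo.isBC_iff _ _).1 (isBC_resTop F s)).span_range
    have h7 : x ∈ Submodule.span Γ(sch 𝒵 w, ⊤) (Set.range (resTop F.obj s)) := by rw [h6]; exact Submodule.mem_top
    induction h7 using Submodule.span_induction with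
    | mem x h => exact h
    | zero => exact ⟨0, map_zero (resTop F.obj s)⟩
    | add x y _ _ hx hy =>
      obtain ⟨x', rfl⟩ := hx
      obtain ⟨y', rfl⟩ := hy
      exact ⟨x' + y', map_add (resTop F.obj s) _ _⟩
    | smul a x _ hx =>
      obtain ⟨x', rfl⟩ := hx
      obtain ⟨a', rfl⟩ := h4 a
      exact ⟨a' • x', resTop_smul F.obj s a' x'⟩
  obtain ⟨y, rfl⟩ := h5
  obtain ⟨t, ht⟩ := (evTerm_bijective p F.obj hα).2 y
  obtain ⟨z, hz⟩ := (hT.ev (p.obj w) (K908.Leray.isAffine_obj p hw)).surjective t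
  refine ⟨z, ?_⟩
  rw [cu_apply, hz, ← ht, evTerm_apply, ← hs]
  exact (t.2 s α).symm

/-- morphisms into `F` from morphisms into the pushforward -/
theorem exists_transpose (h𝒵 : FibCat.IsFibGrpd 𝒵.p) {E : QCoh 𝒳} (φ : E ⟶ T) :
    ∃ u : (comapQ p).obj E ⟶ F, ∀ (w : 𝒵.obj) (hw : IsAffine (sch 𝒵 w)) (x : Γ(E.obj.obj (p.obj w), ⊤)),
      (u.hom.app w).app ⊤ (ct p E.obj w x) = cu hT w hw ((φ.hom.app (p.obj w)).app ⊤ x) := by
  haveI := h𝒵
  let g : ∀ w : (ASieve.all 𝒵).cat.obj, Γ((Mod.comap p E.obj).obj w.obj, ⊤) →ₗ[Γ(sch 𝒵 w.obj, ⊤)] Γ(F.obj.obj w.obj, ⊤) :=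
    fun w =>
    { toFun := fun y => cu hT w.obj w.property ((φ.hom.app (p.obj w.obj)).app ⊤ ((ct p E.obj w.obj).symm y))
      map_add' := fun y z => by
        rw [map_add]
        refine (congrArg (cu hT w.obj w.property) (map_add _ _ _)).trans (map_add _ _ _)
      map_smul' := fun r y => by
        obtain ⟨r', rfl⟩ := (appTop_bijective p w.obj).2 r
        obtain ⟨y', rfl⟩ := (ct p E.obj w.obj).surjective y
        have h1 := ct_smul p E.obj w.obj r' y'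
        change cu hT w.obj w.property ((φ.hom.app (p.obj w.obj)).app ⊤ ((ct p E.obj w.obj).symm
          ((eqToHom (sch_obj_eq p w.obj).symm : sch 𝒵 w.obj ⟶ sch 𝒳 (p.obj w.obj)).appTop r' • ct p E.obj w.obj y'))) =
          (eqToHom (sch_obj_eq p w.obj).symm : sch 𝒵 w.obj ⟶ sch 𝒳 (p.obj w.obj)).appTop r' •
            cu hT w.obj w.property ((φ.hom.app (p.obj w.obj)).app ⊤ ((ct p E.obj w.obj).symm (ct p E.obj w.obj y')))
        rw [← h1, AddEquiv.symm_apply_apply, AddEquiv.symm_apply_apply]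
        have h3 : (φ.hom.app (p.obj w.obj)).app ⊤ (r' • y') = r' • (φ.hom.app (p.obj w.obj)).app ⊤ y' :=
          (restMap φ.hom (ASieve.all 𝒳)).app ⟨p.obj w.obj, K908.Leray.isAffine_obj p w.property⟩ |>.map_smul r' y'
        exact (congrArg (cu hT w.obj w.property) h3).trans (cu_smul hT w.obj w.property r' _) }
  let t : AHom (rest ((comapQ p).obj E).obj (ASieve.all 𝒵)) (rest F.obj (ASieve.all 𝒵)) :=
    { app := g
      comm := fun {w' w} ψ y => by
        change cu hT w'.obj w'.property ((φ.hom.app (p.obj w'.obj)).app ⊤ ((ct p E.obj w'.obj).symm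
          ((Mod.comap p E.obj).mapTop ψ.hom y))) =
          F.obj.mapTop ψ.hom (cu hT w.obj w.property ((φ.hom.app (p.obj w.obj)).app ⊤ ((ct p E.obj w.obj).symm y)))
        rw [ct_symm_mapTop, cu_mapTop hT w'.property w.property]
        congr 1
        exact (Mod.mapTop_app φ.hom (p.map ψ.hom) _).symm }
  refine ⟨ObjectProperty.homMk (homMk K908.Fam.zloc_all t), fun w hw x => ?_⟩
  refine (homMk_app K908.Fam.zloc_all t ⟨w, hw⟩ _).trans ?_
  change cu hT w hw ((φ.hom.app (p.obj w)).app ⊤ ((ct p E.obj w).symm (ct p E.obj w x))) = _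
  rw [AddEquiv.symm_apply_apply]

end Push

/-- sections of `F` coming from the class `P` by inverse image -/
def imgPull (p : 𝒵 ⥤ᵇ 𝒳) (P : QCoh 𝒳 → Prop) (F : QCoh 𝒵) (w : 𝒵.obj) : Set Γ(F.obj.obj w, ⊤) :=
  {x | ∃ (E : QCoh 𝒳) (_ : P E) (u : (comapQ p).obj E ⟶ F) (y : Γ(((comapQ p).obj E).obj.obj w, ⊤)),
    (u.hom.app w).app ⊤ y = x}

/-- **Inverse images of a generating class along an affine morphism are generating** -/
theorem span_imgPull_eq_top (h𝒳 : FibCat.IsFibGrpd 𝒳.p) (h𝒵 : FibCat.IsFibGrpd 𝒵.p) {p : 𝒵 ⥤ᵇ 𝒳} (hp : IsAff p)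
    (P : QCoh 𝒳 → Prop)
    (h : ∀ (M N : QCoh 𝒳) (a b : M ⟶ N), (∀ E : QCoh 𝒳, P E → ∀ φ : E ⟶ M, φ ≫ a = φ ≫ b) → a = b)
    (F : QCoh 𝒵) (w : 𝒵.obj) (hw : IsAffine (sch 𝒵 w)) :
    Submodule.span Γ(sch 𝒵 w, ⊤) (imgPull p P F w) = ⊤ := by
  haveI := h𝒳
  haveI := h𝒵
  obtain ⟨T, ⟨hT⟩⟩ := exists_isPush_of_isAff p hp F
  rw [eq_top_iff]
  intro x _
  obtain ⟨z, rfl⟩ := cu_surjective hT hp w hw x
  have h1 : z ∈ Submodule.span Γ(sch 𝒳 (p.obj w), ⊤) (img P T (p.obj w)) := by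
    rw [span_img_eq_top h𝒳 P h T (p.obj w) (K908.Leray.isAffine_obj p hw)]
    exact Submodule.mem_top
  induction h1 using Submodule.span_induction with
  | mem z h =>
    obtain ⟨E, hE, φ, y, rfl⟩ := h
    obtain ⟨u, hu⟩ := exists_transpose hT h𝒵 φ
    exact Submodule.subset_span ⟨E, hE, u, ct p E.obj w y, hu w hw y⟩
  | zero => rw [map_zero]; exact Submodule.zero_mem _
  | add x y _ _ hx hy => rw [map_add]; exact Submodule.add_mem _ (hx trivial) (hy trivial)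
  | smul a x _ hx => rw [cu_smul]; exact Submodule.smul_mem _ _ (hx trivial)

end K863.Gen
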