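import Groth.Agent.AlgSp.K613.Unram
import Groth.Agent.AlgSp.K613.Mono
import Groth.Agent.Flat2E.Thick
import Mathlib.AlgebraicGeometry.Morphisms.LocalFlatDescent

/-!
# A space locally of finite type over a scheme, with a section and with one-point geometric
fibres, is a monomorphism over the scheme

`mono_of_geom`: `π : F ⟶ h_T` locally of finite type, with a section, such that two points of `F`
over a scheme mapping to `T` through the spectrum of an algebraically closed field are equal when
they have the same image; then `π` is a monomorphism.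
-/

set_option autoImplicit false
set_option backward.isDefEq.respectTransparency false
set_option backward.isDefEq.respectTransparency.types false

universe u

open CategoryTheory CategoryTheory.Limits AlgebraicGeometry Opposite AlgSp K613.Cover K613.Basic

namespace K863.GeomMono

variable {S : Scheme.{u}}

section sch

/-- A morphism locally of finite type is formally unramified as soon as its geometric fibres are. -/
theorem formallyUnramified_of_geometric {X Y : Scheme.{u}} (f : X ⟶ Y) [LocallyOfFiniteType f]
    (h : ∀ (k : Type u) [Field k] [IsAlgClosed k] (t : Spec (.of k) ⟶ Y),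
      FormallyUnramified (pullback.snd f t)) : FormallyUnramified f := by
  refine Groth.Agent.Flat2E.Thick.formallyUnramified_of_fiber f (fun y => ?_)
  let c : Spec (.of (AlgebraicClosure (Y.residueField y))) ⟶ Spec (Y.residueField y) :=
    Spec.map (CommRingCat.ofHom (algebraMap (Y.residueField y) (AlgebraicClosure (Y.residueField y))))
  have hc : (@Surjective ⊓ @Flat ⊓ @QuasiCompact : MorphismProperty Scheme.{u}) c := by
    refine ⟨⟨⟨fun x => ⟨default, ?_⟩⟩, ?_⟩, inferInstance⟩
    · exact Subsingleton.elim _ _
    · rw [HasRingHomProperty.Spec_iff (P := @Flat)]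
      change ((algebraMap (Y.residueField y) (AlgebraicClosure (Y.residueField y)))).Flat
      rw [RingHom.flat_algebraMap_iff]
      infer_instance
  have sq := (IsPullback.of_hasPullback f (c ≫ Y.fromSpecResidueField y))
  have sq2 : IsPullback (f.fiberι y) (f.fiberToSpecResidueField y) f (Y.fromSpecResidueField y) :=
    IsPullback.of_hasPullback _ _
  have sq3 : IsPullback (sq2.lift (pullback.fst f (c ≫ Y.fromSpecResidueField y))
      (pullback.snd f (c ≫ Y.fromSpecResidueField y) ≫ c) (by
        rw [Category.assoc]; exact sq.w)) (pullback.snd f (c ≫ Y.fromSpecResidueField y))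
      (f.fiberToSpecResidueField y) c := by
    refine IsPullback.of_right ?_ (sq2.lift_snd _ _ _) sq2
    rw [sq2.lift_fst]
    exact sq
  exact MorphismProperty.of_isPullback_of_descendsAlong (P := @FormallyUnramified)
    (Q := @Surjective ⊓ @Flat ⊓ @QuasiCompact) sq3.flip hc (h _ _)

end sch

variable {F : Sp S} {T : Over S} (π : F ⟶ (yon S).obj T) (e : (yon S).obj T ⟶ F)

/-- The condition on geometric fibres: at most one point over every scheme mapping to `T` through
the spectrum of an algebraically closed field. -/
def GeomUniq : Prop :=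
  ∀ (k : Type u) [Field k] [IsAlgClosed k] (str : Spec (.of k) ⟶ S) (t : Over.mk str ⟶ T)
    (W : Over S) (w : W ⟶ Over.mk str) (a b : (yon S).obj W ⟶ F),
    a ≫ π = (yon S).map (w ≫ t) → b ≫ π = (yon S).map (w ≫ t) → a = b

variable {π e}

theorem etale_geom (he : e ≫ π = 𝟙 _) (H : GeomUniq π) {V : Over S} {v : (yon S).obj V ⟶ F}
    (hv : RepWith @Etale v) {g : V ⟶ T} (hg : v ≫ π = (yon S).map g) (k : Type u) [Field k]
    [IsAlgClosed k] (str : Spec (.of k) ⟶ S) (t : Over.mk str ⟶ T) :
    Etale (pullback.snd g t).left := by
  refine hv.2 ((yon S).map t ≫ e) ((yon S).map (pullback.fst g t)) _ ?_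
  refine isPullback_of_yon ?_ ?_
  · apply H k str t _ (pullback.snd g t)
    · rw [Category.assoc, hg, ← Functor.map_comp, pullback.condition]
    · rw [Category.assoc, Category.assoc, he, Category.comp_id, ← Functor.map_comp]
  · intro W a b hab
    obtain ⟨a, rfl⟩ := (yon S).map_surjective a
    obtain ⟨b, rfl⟩ := (yon S).map_surjective b
    have h1 : a ≫ g = b ≫ t := by
      apply (yon S).map_injective
      have := congrArg (· ≫ π) hab
      simp only [Category.assoc, he, hg, Category.comp_id] at this
      rw [Functor.map_comp, Functor.map_comp, this]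
    refine ⟨(yon S).map (pullback.lift a b h1), ⟨?_, ?_⟩, ?_⟩
    · rw [← Functor.map_comp, pullback.lift_fst]
    · rw [← Functor.map_comp, pullback.lift_snd]
    · rintro c ⟨hc1, hc2⟩
      obtain ⟨c, rfl⟩ := (yon S).map_surjective c
      congr 1
      apply pullback.hom_ext
      · rw [pullback.lift_fst]
        apply (yon S).map_injective
        rw [Functor.map_comp, hc1]
      · rw [pullback.lift_snd]
        apply (yon S).map_injective
        rw [Functor.map_comp, hc2]

theorem mono_of_geom (hF : IsAlgSpace F) (hlft : LocP @LocallyOfFiniteType π) (he : e ≫ π = 𝟙 _)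
    (H : GeomUniq π) : Mono π := by
  obtain ⟨V, v, hv1, hv2⟩ := hF.atlas
  obtain ⟨g, hg⟩ := (yon S).map_surjective (v ≫ π)
  have hw : v ≫ π = (yon S).map g ≫ 𝟙 _ := by rw [Category.comp_id, hg]
  have h1 : LocallyOfFiniteType g.left := hlft v (𝟙 _) g hv1 (repWith_id _ _) hw
  have h2 : FormallyUnramified g.left := by
    refine formallyUnramified_of_geometric g.left (fun k _ _ t => ?_)
    let t' : Over.mk (t ≫ T.hom) ⟶ T := Over.homMk t
    have h3 : Etale (pullback.snd g t').left := etale_geom he H hv1 hg.symm k _ t'
    have sq := (IsPullback.of_hasPullback g t').map (Over.forget S)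
    have sq2 : IsPullback (pullback.fst g.left t) (pullback.snd g.left t) g.left t :=
      IsPullback.of_hasPullback _ _
    have h4 : pullback.snd g.left t = (sq2.isoIsPullback _ _ sq).hom ≫ (pullback.snd g t').left := by
      exact (IsPullback.isoIsPullback_hom_snd _ _ sq2 sq).symm
    rw [h4]
    infer_instance
  obtain ⟨R, t, s, sq⟩ := hv1.1 v
  obtain ⟨s, rfl⟩ := (yon S).map_surjective s
  have hst : s ≫ g = t ≫ g := by
    apply (yon S).map_injective
    rw [Functor.map_comp, Functor.map_comp, hg, ← Category.assoc, sq.w, Category.assoc]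
  have hj : IsOpenImmersion (pullback.lift s t hst).left :=
    K613.Unram.isOpenImmersion_of_unramified hv1 sq hst
  have hsurj : Surjective (pullback.lift s t hst).left := by
    refine ⟨fun z => ?_⟩
    obtain ⟨c, x, hc⟩ : ∃ (c : Spec (.of (AlgebraicClosure ((pullback g g).left.residueField z))) ⟶
        (pullback g g).left) (x : Spec (.of (AlgebraicClosure ((pullback g g).left.residueField z)))),
        c x = z :=
      ⟨Spec.map (CommRingCat.ofHom (algebraMap ((pullback g g).left.residueField z)
        (AlgebraicClosure ((pullback g g).left.residueField z)))) ≫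
        (pullback g g).left.fromSpecResidueField z, IsLocalRing.closedPoint _, by
          rw [Scheme.Hom.comp_apply]
          exact Scheme.fromSpecResidueField_apply _ _⟩
    let z' : Over.mk (c ≫ (pullback g g).hom) ⟶ pullback g g := Over.homMk c
    have h5 : (yon S).map (z' ≫ pullback.fst g g) ≫ v = (yon S).map (z' ≫ pullback.snd g g) ≫ v := by
      apply H _ _ (z' ≫ pullback.fst g g ≫ g) _ (𝟙 _)
      · rw [Category.assoc, ← hg, ← Functor.map_comp, Category.assoc, Category.id_comp]
      · rw [Category.assoc, ← hg, ← Functor.map_comp, Category.assoc, Category.id_comp,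
          pullback.condition]
    obtain ⟨ρ, hρ⟩ := (yon S).map_surjective (sq.lift _ _ h5)
    have h6 : ρ ≫ pullback.lift s t hst = z' := by
      apply pullback.hom_ext
      · rw [Category.assoc, pullback.lift_fst]
        apply (yon S).map_injective
        rw [Functor.map_comp, hρ, sq.lift_fst]
      · rw [Category.assoc, pullback.lift_snd]
        apply (yon S).map_injective
        rw [Functor.map_comp, hρ, sq.lift_snd]
    refine ⟨ρ.left x, ?_⟩
    have h7 : ρ.left ≫ (pullback.lift s t hst).left = c := congrArg (·.left) h6
    rw [← Scheme.Hom.comp_apply, h7]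
    exact hc
  have hiso : IsIso (pullback.lift s t hst).left := by
    have : Epi (pullback.lift s t hst).left.base := by
      rw [TopCat.epi_iff_surjective]
      exact hsurj.surj
    exact (isIso_iff_isOpenImmersion_and_epi_base _).2 ⟨hj, this⟩
  have hiso' : IsIso (pullback.lift s t hst) := by
    have : IsIso ((Over.forget S).map (pullback.lift s t hst)) := hiso
    exact isIso_of_reflects_iso _ (Over.forget S)
  refine mono_of_injective fun W a b hab => ?_
  obtain ⟨W₁, c₁, a₁, hc₁, ha₁⟩ := ESurj.of_repWith hv1 hv2 W a
  obtain ⟨W₂, c₂, b₂, hc₂, hb₂⟩ := ESurj.of_repWith hv1 hv2 W₁ ((yon S).map c₁ ≫ b)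
  obtain ⟨a₁, rfl⟩ := (yon S).map_surjective a₁
  obtain ⟨b₂, rfl⟩ := (yon S).map_surjective b₂
  have h8 : (c₂ ≫ a₁) ≫ g = b₂ ≫ g := by
    apply (yon S).map_injective
    rw [Functor.map_comp, Functor.map_comp, Functor.map_comp, hg, Category.assoc, ← Category.assoc _ v,
      ha₁, ← Category.assoc _ v, hb₂, Category.assoc, Category.assoc, Category.assoc, hab]
  have h9 := congrArg (pullback.lift (c₂ ≫ a₁) b₂ h8 ≫ ·) (IsIso.inv_hom_id (pullback.lift s t hst))
  simp only [Category.comp_id] at h9
  have h10 : (pullback.lift (c₂ ≫ a₁) b₂ h8 ≫ inv (pullback.lift s t hst)) ≫ s = c₂ ≫ a₁ := by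
    have := congrArg (· ≫ pullback.fst g g) h9
    simp only [Category.assoc, pullback.lift_fst] at this
    rw [Category.assoc, this]
  have h11 : (pullback.lift (c₂ ≫ a₁) b₂ h8 ≫ inv (pullback.lift s t hst)) ≫ t = b₂ := by
    have := congrArg (· ≫ pullback.snd g g) h9
    simp only [Category.assoc, pullback.lift_snd] at this
    rw [Category.assoc, this]
  have h12 : (yon S).map (c₂ ≫ a₁) ≫ v = (yon S).map b₂ ≫ v := by
    generalize (pullback.lift (c₂ ≫ a₁) b₂ h8 ≫ inv (pullback.lift s t hst)) = ρ at h10 h11
    rw [← h10, ← h11, Functor.map_comp, Category.assoc, sq.w, ← Category.assoc, ← Functor.map_comp]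
  have := hc₁.fpC.epi (S := S)
  have := hc₂.fpC.epi (S := S)
  rw [← cancel_epi ((yon S).map c₁), ← cancel_epi ((yon S).map c₂), ← hb₂, ← h12, Functor.map_comp,
    Category.assoc, ha₁]

end K863.GeomMono
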