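import Groth.Prelude.Def_StMod6
import Groth.Agent.CohqA.PullbackUniv
import Groth.Agent.FormalA.PullbackQC

/-!
# The quasi-coherent module on the category of a scheme defined by a quasi-coherent module on the scheme
-/

set_option autoImplicit false
set_option backward.isDefEq.respectTransparency false
set_option backward.isDefEq.respectTransparency.types false

universe u

open CategoryTheory CategoryTheory.Limits AlgebraicGeometry Opposite StMod Scheme.Modules
open Groth.Agent.CohqA.PullbackUniv

namespace K863.QOver

section Congr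

variable {X Y Z : Scheme.{u}}

theorem congr_congr {g g' g'' : Y ⟶ X} (e : g = g') (e' : g' = g'') (N : Y.Modules) :
    (pushforwardCongr e).hom.app N ≫ (pushforwardCongr e').hom.app N = (pushforwardCongr (e.trans e')).hom.app N := by
  subst e e'
  rw [pushforwardCongr_hom_app_self, Category.comp_id]

theorem compMap_congr {g g' : Y ⟶ X} (e : g = g') (h : Z ⟶ Y) {M : X.Modules} {N : Y.Modules} {P : Z.Modules}
    (a : M ⟶ (pushforward g).obj N) (b : N ⟶ (pushforward h).obj P) :
    compMap (a ≫ (pushforwardCongr e).hom.app N) b =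
      compMap a b ≫ (pushforwardCongr (congrArg (fun t => h ≫ t) e)).hom.app P := by
  subst e
  rw [pushforwardCongr_hom_app_self, pushforwardCongr_hom_app_self, Category.comp_id, Category.comp_id]

theorem compMap_id {g : Y ⟶ X} {M : X.Modules} {N : Y.Modules} (a : M ⟶ (pushforward g).obj N) :
    compMap a ((pushforwardId _).inv.app N) = a ≫ (pushforwardCongr (Category.id_comp g).symm).hom.app N := by
  apply Scheme.Modules.hom_ext
  intro U
  simp only [compMap, Scheme.Modules.Hom.comp_app, pushforwardComp_hom_app_app, pushforward_map_app,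
    pushforwardId_inv_app_app, pushforwardCongr_hom_app_app]
  have h1 : ∀ (V : Y.Opens) (e : V = V), N.presheaf.map (eqToHom e).op = 𝟙 _ := fun V e => by
    rw [eqToHom_refl, op_id, CategoryTheory.Functor.map_id]
  exact congrArg (fun t => a.app U ≫ t) (h1 _ _).symm

end Congr

variable {S : Scheme.{u}} {X : Over S} (M : X.left.Modules)

/-- the structure morphism -/
abbrev st (g : (FibCat.overCat X).obj) : sch (FibCat.overCat X) g ⟶ X.left := g.hom.left

/-- the inverse image -/
noncomputable abbrev ob (g : (FibCat.overCat X).obj) : (sch (FibCat.overCat X) g).Modules :=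
  (Scheme.Modules.pullback (st g)).obj M

/-- the universal morphism -/
noncomputable abbrev un (g : (FibCat.overCat X).obj) : M ⟶ (pushforward (st g)).obj (ob M g) :=
  (pullbackPushforwardAdjunction (st g)).unit.app M

theorem st_eq {g' g : (FibCat.overCat X).obj} (φ : g' ⟶ g) {h : sch (FibCat.overCat X) g' ⟶ sch (FibCat.overCat X) g}
    (hh : bmap (FibCat.overCat X) φ = h) : st g' = h ≫ st g := by
  subst hh
  exact (congrArg (fun t => t.left) (Over.w φ)).symm

theorem exists_mp {g' g : (FibCat.overCat X).obj} (φ : g' ⟶ g)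
    {h : sch (FibCat.overCat X) g' ⟶ sch (FibCat.overCat X) g} (hh : bmap (FibCat.overCat X) φ = h) :
    ∃ b : ob M g ⟶ (pushforward h).obj (ob M g'), compMap (un M g) b =
      un M g' ≫ (pushforwardCongr (st_eq φ hh)).hom.app (ob M g') :=
  (bijective_compMap h (un M g) (isUniv_unit _ _) (ob M g')).2 _

/-- the comparison map -/
noncomputable def mp {g' g : (FibCat.overCat X).obj} (φ : g' ⟶ g)
    {h : sch (FibCat.overCat X) g' ⟶ sch (FibCat.overCat X) g} (hh : bmap (FibCat.overCat X) φ = h) :
    ob M g ⟶ (pushforward h).obj (ob M g') := (exists_mp M φ hh).choose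

theorem mp_spec {g' g : (FibCat.overCat X).obj} (φ : g' ⟶ g)
    {h : sch (FibCat.overCat X) g' ⟶ sch (FibCat.overCat X) g} (hh : bmap (FibCat.overCat X) φ = h) :
    compMap (un M g) (mp M φ hh) = un M g' ≫ (pushforwardCongr (st_eq φ hh)).hom.app (ob M g') :=
  (exists_mp M φ hh).choose_spec

theorem mp_uniq {g' g : (FibCat.overCat X).obj} (φ : g' ⟶ g)
    {h : sch (FibCat.overCat X) g' ⟶ sch (FibCat.overCat X) g} (hh : bmap (FibCat.overCat X) φ = h)
    (b : ob M g ⟶ (pushforward h).obj (ob M g'))
    (hb : compMap (un M g) b = un M g' ≫ (pushforwardCongr (st_eq φ hh)).hom.app (ob M g')) : b = mp M φ hh :=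
  (bijective_compMap h (un M g) (isUniv_unit _ _) (ob M g')).1 (hb.trans (mp_spec M φ hh).symm)

/-- the module on the category of `X` -/
noncomputable def qmod : Mod (FibCat.overCat X) where
  obj g := ob M g
  map φ _ hh := mp M φ hh
  map_id g := by
    have h : (pushforwardId _).inv.app (ob M g) = mp M (𝟙 g) (bmap_id g) := by
      apply mp_uniq
      exact compMap_id _
    rw [← h, ← NatTrans.comp_app, Iso.inv_hom_id, NatTrans.id_app]
    rfl
  map_comp ψ φ h g hh hg := by
    symm
    apply mp_uniq
    have h1 := mp_spec M ψ hh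
    have h2 := mp_spec M φ hg
    rename_i a b c
    change compMap (un M c) (compMap (mp M φ hg) (mp M ψ hh)) = _
    have h3 : compMap (un M c) (compMap (mp M φ hg) (mp M ψ hh)) =
        compMap (compMap (un M c) (mp M φ hg)) (mp M ψ hh) := by
      apply Scheme.Modules.hom_ext
      intro U
      simp [compMap]
    rw [h3, h2, compMap_congr, h1]
    refine (Category.assoc _ _ _).trans ?_
    exact congrArg (fun t => un M a ≫ t) (congr_congr _ _ _)

theorem isCartesian_qmod : (qmod M).IsCartesian := by
  intro g' g φ h hh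
  rw [← isUniv_iff_isIso]
  have h1 := mp_spec M φ hh
  have h2 : IsUniv (h ≫ st g) (compMap (un M g) (mp M φ hh)) := by
    rw [h1, isUniv_congr]
    exact isUniv_unit _ _
  exact (isUniv_compMap_iff (isUniv_unit _ _) _).1 h2

/-- the quasi-coherent module on the category of `X` -/
noncomputable def qo (hM : Coh.IsQCoh M) : QCoh (FibCat.overCat X) :=
  ⟨qmod M, isCartesian_qmod M, fun g => Groth.Agent.FormalA.PullbackQC.isQCoh_pullback (st g) M hM⟩

theorem qo_obj (hM : Coh.IsQCoh M) (g : (FibCat.overCat X).obj) : (qo M hM).obj.obj g = ob M g := rfl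

end K863.QOver
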