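import Groth.Agent.ResProp.K863.QuotDiag
import Groth.Agent.AlgSt.K747.Inert

/-!
# If the diagonal of `[X/G]` is affine then so is the diagonal of `X`
-/

set_option autoImplicit false
set_option backward.isDefEq.respectTransparency false
set_option backward.isDefEq.respectTransparency.types false

universe w u

open CategoryTheory CategoryTheory.Limits AlgebraicGeometry Opposite MonoidalCategory
  CartesianMonoidalCategory MonObj
open Groth.Agent.Books.BorelOrb

namespace K863.QuotDiag

open K744.IsomFp K747.Sc K744.Quot K744.QuotFp DiagCover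

variable {S : Scheme.{u}} {G X : Over S} [GrpObj G] (aX : AlgGrp.Action G X)

/-- `q(x)`: the trivial torsor of a point `x : T ⟶ X`. -/
noncomputable abbrev qx {T : Over S} (x : T ⟶ X) :
    FibCat.overCat T ⥤ᵇ AlgSt.QuotSt Scheme.fppfPrecoverage G aX :=
  BasedFunctor.comp (ovMap x) (chart Scheme.fppfPrecoverage G aX)

theorem strU_qx {T : Over S} (x : T ⟶ X) : strU (qx aX x) = snd G T := by
  have h : (strU (qx aX x)) = snd G T ≫ eqToHom rfl := rfl
  rw [h, eqToHom_refl, Category.comp_id]

theorem φ_qx {T : Over S} (x : T ⟶ X) : (tors (qx aX x)).φ = (G ◁ x) ≫ aX.act := by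
  change (G ◁ (𝟙 T ≫ x)) ≫ aX.act = _
  rw [Category.id_comp]

theorem fpSch_qx {T : Over S} (x : T ⟶ X) :
    FpSch (Q := G ⊗ T) (qx aX x) (chart Scheme.fppfPrecoverage G aX) (snd G T)
      ((G ◁ x) ≫ aX.act) := by
  rw [← strU_qx aX x, ← φ_qx aX x]
  exact exists_isEquivOver_overCat (qx aX x)

theorem comp_whisker {T W : Over S} (x : T ⟶ X) (a : W ⟶ G ⊗ T) :
    a ≫ (G ◁ x) ≫ aX.act = sm aX (a ≫ fst G T) (a ≫ snd G T ≫ x) := by
  rw [sm, ← Category.assoc]
  congr 1
  apply CartesianMonoidalCategory.hom_ext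
  · simp
  · simp

theorem prop_of_diag (P : MorphismProperty Scheme.{u}) [P.IsStableUnderBaseChange]
    [P.IsStableUnderComposition] (hPC : ∀ {A B : Scheme.{u}} (f : A ⟶ B), IsClosedImmersion f → P f)
    [IsSeparated G.hom]
    (h : AlgSt.RepByAlgSpWith (AlgSp.RepWith P)
      (FibCat.diag (FibCat.toSelf (AlgSt.QuotSt Scheme.fppfPrecoverage G aX)))) :
    P (pullback.diagonal X.hom) := by
  refine (prop_diag_iff P X).1 ?_
  have : P.RespectsIso := MorphismProperty.IsStableUnderBaseChange.respectsIso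
  have hG : FibCat.IsFibGrpd (AlgSt.QuotSt Scheme.fppfPrecoverage G aX).p :=
    K744.QuotFib.isFibGrpd
  let T : Over S := X ⨯ X
  obtain ⟨hI, -, h1⟩ := diag_with hG (AlgSp.RepWith P) h (qx aX (T := T) prod.fst)
    (qx aX (T := T) prod.snd)
  obtain ⟨m, sq⟩ := exists_isPullback hG (fpSch_qx aX (T := T) prod.fst)
    (fpSch_qx aX (T := T) prod.snd)
  let r₁ : G ⊗ T ⟶ X := (G ◁ prod.fst) ≫ aX.act
  let r₂ : G ⊗ T ⟶ X := (G ◁ prod.snd) ≫ aX.act
  let l₁ : G ⊗ T ⟶ T ⨯ X := prod.lift (snd G T) r₁
  let l₂ : G ⊗ T ⟶ T ⨯ X := prod.lift (snd G T) r₂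
  have sq' : IsPullback (ObjectProperty.homMk m : (AlgSp.yon S).obj (pullback l₁ l₂) ⟶
      (⟨_, hI⟩ : AlgSp.Sp S)) ((AlgSp.yon S).map (pullback.snd l₁ l₂))
      (prI' hG (qx aX (T := T) prod.fst) (qx aX (T := T) prod.snd) hI)
      ((AlgSp.yon S).map (snd G T)) :=
    IsPullback.of_map_of_faithful (sheafToPresheaf (AlgSp.J S) (Type (u + 1))) sq
  have hn : P (pullback.snd l₁ l₂).left := h1.2 _ _ _ sq'
  -- pull back along the unit section
  let v : T ⟶ G ⊗ T := unitPt G T
  have hn' : P (pullback.snd (pullback.snd l₁ l₂) v).left :=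
    P.of_isPullback ((IsPullback.of_hasPullback (pullback.snd l₁ l₂) v).map (Over.forget S)) hn
  have hs1 : (Limits.diag X ≫ v) ≫ l₁ = (Limits.diag X ≫ v) ≫ l₂ := by
    apply Limits.prod.hom_ext
    · simp only [l₁, l₂, Category.assoc, prod.lift_fst]
    · simp only [l₁, l₂, Category.assoc, prod.lift_snd, r₁, r₂]
      have h3 : ∀ x : T ⟶ X, v ≫ (G ◁ x) ≫ aX.act = x := fun x => by
        rw [comp_whisker, ← Category.assoc v, unitPt_fst, unitPt_snd, Category.id_comp, one_sm]
      rw [h3, h3]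
      simp [Limits.diag]
  let κ : X ⟶ pullback (pullback.snd l₁ l₂) v :=
    pullback.lift (pullback.lift (Limits.diag X ≫ v) (Limits.diag X ≫ v) hs1) (Limits.diag X)
      (by rw [pullback.lift_snd])
  have hκ : κ ≫ pullback.snd (pullback.snd l₁ l₂) v = Limits.diag X := pullback.lift_snd _ _ _
  let ρ : pullback (pullback.snd l₁ l₂) v ⟶ G ⊗ X :=
    pullback.fst _ _ ≫ pullback.fst l₁ l₂ ≫ (G ◁ (prod.fst : T ⟶ X))
  have hρ : κ ≫ ρ = unitPt G X := by
    simp only [κ, ρ, pullback.lift_fst_assoc]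
    apply CartesianMonoidalCategory.hom_ext
    · simp only [Category.assoc, whiskerLeft_fst, v]
      rw [unitPt_fst, unitPt_fst, comp_one]
    · simp only [Category.assoc, whiskerLeft_snd, v]
      rw [← Category.assoc (unitPt G T), unitPt_snd, Category.id_comp, unitPt_snd]
      simp [Limits.diag]
  have hmono : Mono ρ := by
    refine ⟨fun {Z} a b hab => ?_⟩
    have e0 : ∀ c : Z ⟶ pullback (pullback.snd l₁ l₂) v,
        c ≫ pullback.fst _ _ ≫ pullback.snd l₁ l₂ = (c ≫ pullback.snd _ _) ≫ v := fun c => by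
      rw [Category.assoc, pullback.condition]
    have e1 : ∀ c : Z ⟶ pullback (pullback.snd l₁ l₂) v,
        (c ≫ pullback.fst _ _ ≫ pullback.fst l₁ l₂) ≫ snd G T = c ≫ pullback.snd _ _ := fun c => by
      have h2 := congrArg (fun k => (c ≫ pullback.fst _ _) ≫ k ≫ prod.fst)
        (pullback.condition (f := l₁) (g := l₂))
      simp only [l₁, l₂, Category.assoc, prod.lift_fst] at h2
      have h3 := congrArg (· ≫ snd G T) (e0 c)
      simp only [Category.assoc, v, unitPt_snd, Category.comp_id] at h3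
      rw [Category.assoc, Category.assoc]
      exact h2.trans h3
    have e2 : ∀ c : Z ⟶ pullback (pullback.snd l₁ l₂) v,
        (c ≫ pullback.snd _ _) ≫ prod.snd = (c ≫ ρ) ≫ aX.act := fun c => by
      have h2 := congrArg (fun k => (c ≫ pullback.fst _ _) ≫ k ≫ prod.snd)
        (pullback.condition (f := l₁) (g := l₂))
      simp only [l₁, l₂, Category.assoc, prod.lift_snd, r₁, r₂] at h2
      have h3 := congrArg (· ≫ (G ◁ (prod.snd : T ⟶ X)) ≫ aX.act) (e0 c)
      have h4 : v ≫ (G ◁ (prod.snd : T ⟶ X)) ≫ aX.act = prod.snd := by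
        rw [comp_whisker, ← Category.assoc v, unitPt_fst, unitPt_snd, Category.id_comp, one_sm]
      simp only [Category.assoc] at h3
      rw [h4] at h3
      simp only [Category.assoc, ρ]
      exact h3.symm.trans h2.symm
    have e3 : ∀ c : Z ⟶ pullback (pullback.snd l₁ l₂) v,
        (c ≫ pullback.snd _ _) ≫ prod.fst = (c ≫ ρ) ≫ snd G X := fun c => by
      rw [← e1 c]
      simp only [Category.assoc, ρ, whiskerLeft_snd]
    have e4 : ∀ c : Z ⟶ pullback (pullback.snd l₁ l₂) v,
        (c ≫ pullback.fst _ _ ≫ pullback.fst l₁ l₂) ≫ fst G T = (c ≫ ρ) ≫ fst G X := fun c => by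
      simp only [Category.assoc, ρ, whiskerLeft_fst]
    have e5 : a ≫ pullback.snd (pullback.snd l₁ l₂) v = b ≫ pullback.snd _ _ := by
      apply Limits.prod.hom_ext
      · rw [e3, e3, hab]
      · rw [e2, e2, hab]
    apply pullback.hom_ext
    · apply pullback.hom_ext
      · rw [Category.assoc, Category.assoc]
        apply CartesianMonoidalCategory.hom_ext
        · rw [e4, e4, hab]
        · rw [e1, e1, e5]
      · rw [Category.assoc, Category.assoc, e0, e0, e5]
    · exact e5
  have hsnd : IsSeparated (snd G X).left := by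
    have sq := K744.TorsProp.isPullback_left (AlgSt.isPullback_fst_snd G X)
    refine MorphismProperty.of_isPullback (P := @IsSeparated) sq ?_
    have : (toUnit G).left = G.hom := by simp
    rw [this]
    infer_instance
  have hu : IsClosedImmersion (unitPt G X).left := by
    have h2 : (unitPt G X).left ≫ (snd G X).left = 𝟙 _ := by
      rw [← Over.comp_left, unitPt_snd, Over.id_left]
    have : IsClosedImmersion ((unitPt G X).left ≫ (snd G X).left) := by rw [h2]; infer_instance
    exact IsClosedImmersion.of_comp (unitPt G X).left (snd G X).left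
  have hκc : IsClosedImmersion κ.left := by
    have h2 : κ.left ≫ ρ.left = (unitPt G X).left := by rw [← Over.comp_left, hρ]
    have : IsClosedImmersion (κ.left ≫ ρ.left) := by rw [h2]; exact hu
    have hm := K613.Unram.mono_left ρ
    exact IsClosedImmersion.of_comp κ.left ρ.left
  rw [← hκ, Over.comp_left]
  exact P.comp_mem _ _ (hPC _ hκc) hn'

end K863.QuotDiag
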