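import Groth.Agent.ResProp.K863.QOver
import Groth.Agent.ResProp.K863.Gen
import Groth.Agent.FormalB.ModPowAff2
import Groth.Agent.Dcoh.FinLocFree
import Groth.Agent.TwSh.K799.LFree
import Groth.Agent.CohqB.FiniteType2
import Groth.Prelude.Def_PerfAux
import Groth.Prelude.Def_StMod3
import Groth.Agent.AlgSt.K734.Yon2
import Groth.Agent.AlgSt.K734.Grpd

/-!
# The resolution property of a scheme affine over a category with the resolution property
-/

set_option autoImplicit false
set_option linter.style.haveILetI false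

universe t v' w' v w u

open CategoryTheory CategoryTheory.Limits AlgebraicGeometry Opposite StMod

namespace K863.ResX

section Fin

variable {X : Scheme.{u}}

/-- finite locally free modules -/
def flf (X : Scheme.{u}) : ObjectProperty X.Modules := fun M => FlatMod.IsFinLocFree M

instance : (flf X).IsClosedUnderIsomorphisms where
  of_iso e h := Groth.Agent.Dcoh.FinLocFree.isFinLocFree_of_iso e h

instance : (flf X).ContainsZero where
  exists_zero := ⟨_, isZero_zero _, Groth.Agent.Dcoh.FinLocFree.isFinLocFree_of_isZero (isZero_zero _)⟩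

instance : (flf X).IsClosedUnderBinaryCoproducts where
  colimitsOfShape_le := by
    rintro M ⟨p⟩
    have h1 : flf X (p.diag.obj ⟨WalkingPair.left⟩) := p.prop_diag_obj _
    have h2 : flf X (p.diag.obj ⟨WalkingPair.right⟩) := p.prop_diag_obj _
    have e : M ≅ (p.diag.obj ⟨WalkingPair.left⟩) ⊞ (p.diag.obj ⟨WalkingPair.right⟩) :=
      p.isColimit.coconePointsIsoOfNatIso (BinaryBiproduct.isColimit _ _) (diagramIsoPair p.diag)
    exact (flf X).prop_of_iso e.symm (Groth.Agent.Dcoh.FinLocFree.isFinLocFree_biprod h1 h2)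

instance : (flf X).IsClosedUnderFiniteCoproducts := .mk'

theorem isFinLocFree_coproduct {J : Type t} [Finite J] (M : J → X.Modules)
    (h : ∀ j, FlatMod.IsFinLocFree (M j)) : FlatMod.IsFinLocFree (∐ M) :=
  (flf X).prop_coproduct h

open K799.LFree

/-- A family of morphisms into a module of finite type, jointly surjective on affine opens, has a finite subfamily
whose sum is an epimorphism. -/
theorem exists_finite_epi [CompactSpace X] {I : Type t} (N : I → X.Modules) {M : X.Modules} (f : ∀ i, N i ⟶ M)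
    (hM : Coh.IsQCoh M) (hft : CohB1.IsFT M)
    (h : ∀ V : X.Opens, IsAffineOpen V → (⨆ i, LinearMap.range (apₗ (f i) V)) = ⊤) :
    ∃ (n : ℕ) (k : Fin n → I), Epi (Sigma.desc fun j => f (k j)) := by
  classical
  obtain ⟨T, hT⟩ : ∃ T : Finset X.affineOpens, ∀ x : X, ∃ V ∈ T, x ∈ (V : X.Opens) := by
    have hc : IsCompact (Set.univ : Set X) := isCompact_univ
    obtain ⟨T, hT⟩ := hc.elim_finite_subcover (fun V : X.affineOpens => ((V : X.Opens) : Set X))
      (fun V => (V : X.Opens).isOpen) (fun x _ => by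
        obtain ⟨V, hV, hxV, -⟩ := exists_isAffineOpen_mem_and_subset (X := X) (x := x) (U := ⊤) (Set.mem_univ x)
        exact Set.mem_iUnion.2 ⟨⟨V, hV⟩, hxV⟩)
    refine ⟨T, fun x => ?_⟩
    have h1 := hT (Set.mem_univ x)
    simp only [Set.mem_iUnion] at h1
    obtain ⟨V, hV, hx⟩ := h1
    exact ⟨V, hV, hx⟩
  have h1 : ∀ V : X.affineOpens, ∃ s : Finset I, (⊤ : Submodule Γ(X, V.1) Γ(M, V.1)) ≤
      ⨆ i ∈ s, LinearMap.range (apₗ (f i) V.1) := by
    intro V
    haveI := hM
    haveI := Groth.Agent.CohqB.FiniteType2.finite_sections_of_isFT M hft V.2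
    have h2 : IsCompactElement (⊤ : Submodule Γ(X, V.1) Γ(M, V.1)) :=
      (Submodule.fg_iff_compact _).1 Module.Finite.fg_top
    exact CompleteLattice.IsCompactElement.exists_finset_of_le_iSup _ h2 _ (h V.1 V.2).ge
  choose s hs using h1
  let S : Finset I := T.biUnion s
  let e := S.equivFin
  refine ⟨S.card, fun j => (e.symm j : I), ?_⟩
  refine Groth.Agent.FormalB.ModPowAff2.epi_of_affine_cover hM _ fun x => ?_
  obtain ⟨V, hV, hx⟩ := hT x
  refine ⟨V.1, hx, V.2, ?_⟩
  have h3 : (⊤ : Submodule Γ(X, V.1) Γ(M, V.1)) ≤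
      LinearMap.range (apₗ (Sigma.desc fun j => f (e.symm j : I)) V.1) := by
    refine (hs V).trans (iSup₂_le fun i hi => ?_)
    have hiS : i ∈ S := Finset.mem_biUnion.2 ⟨V, hV, hi⟩
    rintro _ ⟨y, rfl⟩
    have h4 : Sigma.ι (fun j => N (e.symm j : I)) (e ⟨i, hiS⟩) ≫ Sigma.desc (fun j => f (e.symm j : I)) =
        f (e.symm (e ⟨i, hiS⟩) : I) := Sigma.ι_desc _ _
    have h5 : ∀ (i' : I) (hi' : i = i') (y : Γ(N i, V.1)), ∃ y' : Γ(N i', V.1), apₗ (f i') V.1 y' = apₗ (f i) V.1 y := by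
      rintro _ rfl y
      exact ⟨y, rfl⟩
    obtain ⟨y', hy'⟩ := h5 (e.symm (e ⟨i, hiS⟩) : I) (by rw [e.symm_apply_apply]) y
    refine ⟨apₗ (Sigma.ι (fun j => N (e.symm j : I)) (e ⟨i, hiS⟩)) V.1 y', ?_⟩
    rw [← hy', ← h4]
    rfl
  intro m
  obtain ⟨y, hy⟩ := h3 (Submodule.mem_top (x := m))
  exact ⟨y, hy⟩

end Fin

theorem isFinLocFree_castMod {X T : Scheme.{u}} (h : X = T) {M : X.Modules} (hM : FlatMod.IsFinLocFree M) :
    FlatMod.IsFinLocFree (castMod h M) := by
  subst h
  exact hM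

theorem appLE_bijective {X Y : Scheme.{u}} (j : Y ⟶ X) [IsOpenImmersion j] {U : X.Opens} (hU : j.opensRange = U)
    (h : ⊤ ≤ j ⁻¹ᵁ U) : Function.Bijective (j.appLE U ⊤ h).hom := by
  subst hU
  have h1 : j.opensRange = j ''ᵁ ⊤ := (j.image_top_eq_opensRange).symm
  have h2 : IsIso (j.appLE j.opensRange ⊤ h) := by
    have h3 : j.appLE j.opensRange ⊤ h = X.presheaf.map (eqToHom h1.symm).op ≫ (j.appIso ⊤).hom := by
      rw [Scheme.Hom.appIso_hom', Scheme.Hom.map_appLE]
    rw [h3]
    infer_instance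
  exact ConcreteCategory.bijective_of_isIso (j.appLE j.opensRange ⊤ h)

section Main

set_option backward.isDefEq.respectTransparency false
set_option backward.isDefEq.respectTransparency.types false

open K908.QSec K908.Fam K734.Fib K799.LFree K863.Gen K863.QOver

variable {S : Scheme.{u}} {𝒳 : BasedCategory.{v, w} (Over S)}

/-- **The resolution property passes to schemes affine over the category.** -/
theorem hasResolutionProperty (h𝒳 : FibCat.IsFibGrpd 𝒳.p) {X : Over S} [CompactSpace X.left]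
    {p : FibCat.overCat X ⥤ᵇ 𝒳} (hp : K908.Aff.IsAff p)
    (h : ∀ (M N : QCoh 𝒳) (a b : M ⟶ N), (∀ E : QCoh 𝒳, E.obj.IsLocFree → E.obj.IsFinType →
      ∀ φ : E ⟶ M, φ ≫ a = φ ≫ b) → a = b) : PerfAux.HasResolutionProperty X.left := by
  haveI := h𝒳
  haveI h𝒵 : FibCat.IsFibGrpd (FibCat.overCat X).p := K734.Fib.isFibGrpd_overCat X
  intro M hM hft
  let F : QCoh (FibCat.overCat X) := qo M hM
  let o : (FibCat.overCat X).obj := one X
  let P : QCoh 𝒳 → Prop := fun E => E.obj.IsLocFree ∧ E.obj.IsFinType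
  have hP := fun (w : (FibCat.overCat X).obj) (hw : IsAffine (sch (FibCat.overCat X) w)) =>
    span_imgPull_eq_top h𝒳 h𝒵 hp P (fun M N a b hab => h M N a b fun E h1 h2 => hab E ⟨h1, h2⟩) F w hw
  let e : F.obj.obj o ≅ M := (Scheme.Modules.pullbackId X.left).app M
  let I := Σ E : {E : QCoh 𝒳 // P E}, ((comapQ p).obj E.1 ⟶ F)
  let N : I → X.left.Modules := fun i => ((comapQ p).obj i.1.1).obj.obj o
  let g : ∀ i, N i ⟶ F.obj.obj o := fun i => i.2.hom.app o
  let f : ∀ i, N i ⟶ M := fun i => g i ≫ e.hom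
  have hN : ∀ i, FlatMod.IsFinLocFree (N i) := fun i =>
    isFinLocFree_castMod _ ((locFree_finType_iff _).1 ⟨i.1.2.1 (p.obj o), i.1.2.2 (p.obj o)⟩)
  have key : ∀ V : X.left.Opens, IsAffineOpen V → (⨆ i, LinearMap.range (apₗ (f i) V)) = ⊤ := by
    intro V hV
    let w : (FibCat.overCat X).obj := Over.mk (Over.homMk V.ι rfl : Over.mk (V.ι ≫ X.hom) ⟶ X)
    have hw : IsAffine (sch (FibCat.overCat X) w) := hV
    let φ : w ⟶ o := toOne w
    have hφ : IsOpenImmersion (bmap (FibCat.overCat X) φ) := inferInstanceAs (IsOpenImmersion V.ι)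
    have hr : (bmap (FibCat.overCat X) φ).opensRange = V := V.opensRange_ι
    have hin : InOp φ V := by
      intro x _
      change V.ι x ∈ V
      exact x.2
    have hb := secX_bijective F φ hr hin
    have h1 : ∀ z : Γ(F.obj.obj w, ⊤), ∃ x ∈ ⨆ i, LinearMap.range (apₗ (g i) V), secX F.obj φ V hin x = z := by
      intro z
      have hz : z ∈ Submodule.span Γ(sch (FibCat.overCat X) w, ⊤) (imgPull p P F w) := by
        rw [hP w hw]
        exact Submodule.mem_top
      induction hz using Submodule.span_induction with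
      | mem z h =>
        obtain ⟨E, hE, u, y, rfl⟩ := h
        obtain ⟨y', rfl⟩ := (secX_bijective ((comapQ p).obj E) φ hr hin).2 y
        refine ⟨(u.hom.app o).app V y', ?_, secX_hom u.hom φ V hin y'⟩
        exact (le_iSup (fun i => LinearMap.range (apₗ (g i) V)) (⟨⟨E, hE⟩, u⟩ : I)) ⟨y', rfl⟩
      | zero => exact ⟨0, Submodule.zero_mem _, map_zero _⟩
      | add x y _ _ hx hy =>
        obtain ⟨x', hx', rfl⟩ := hx
        obtain ⟨y', hy', rfl⟩ := hy
        exact ⟨x' + y', Submodule.add_mem _ hx' hy', map_add _ _ _⟩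
      | smul a x _ hx =>
        obtain ⟨x', hx', rfl⟩ := hx
        obtain ⟨a', rfl⟩ := (appLE_bijective (bmap (FibCat.overCat X) φ) hr hin).2 a
        exact ⟨a' • x', Submodule.smul_mem _ a' hx', secX_smul F.obj φ V hin a' x'⟩
    rw [eq_top_iff]
    intro m _
    obtain ⟨x, hx, hx'⟩ := h1 (secX F.obj φ V hin (e.inv.app V m))
    have h2 := hb.1 hx'
    have h3 : apₗ e.hom V x = m := by
      rw [h2]
      change (e.inv ≫ e.hom).app V m = m
      rw [e.inv_hom_id]
      rfl
    have h4 : apₗ e.hom V x ∈ Submodule.map (apₗ e.hom V) (⨆ i, LinearMap.range (apₗ (g i) V)) :=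
      Submodule.mem_map_of_mem hx
    rw [Submodule.map_iSup, h3] at h4
    have h5 : (⨆ i, Submodule.map (apₗ e.hom V) (LinearMap.range (apₗ (g i) V))) ≤
        ⨆ i, LinearMap.range (apₗ (f i) V) := iSup_mono fun i => by
      rintro _ ⟨_, ⟨y, rfl⟩, rfl⟩
      exact ⟨y, rfl⟩
    exact h5 h4
  obtain ⟨n, k, hk⟩ := exists_finite_epi N f hM hft key
  exact ⟨∐ fun j => N (k j), Sigma.desc fun j => f (k j), isFinLocFree_coproduct _ fun j => hN (k j), hk⟩

end Main

end K863.ResX
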